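import Cfsg.Agent.UGT.P3.Functor

/-!
# PIECE 3, (2): `[O(C(y)), M] ≤ W`
-/

set_option autoImplicit false

open Cfsg Subgroup
open Cfsg.Agent.SignalizersComponents Cfsg.Agent.Lib
open Cfsg.Agent.SignalizersComponents.IntrinsicBasic
open Cfsg.Agent.SignalizersComponents.PLayerAut
open Cfsg.Agent.Intrinsic.Basic Cfsg.Agent.Intrinsic.Cen Cfsg.Agent.Intrinsic.Diag
open Cfsg.Agent.McLLyComp.Act
open Cfsg.Agent.UGT.TMCBase
open scoped commutatorElement

namespace Cfsg.Agent.UGT.P3

universe u v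

section conj

variable {G : Type u} [Group G]

theorem conj_mem_of_norm {W : Subgroup G} {g x : G} (hg : g ∈ normalizer (W : Set G)) (hx : x ∈ W) :
    g * x * g⁻¹ ∈ W := (mem_normalizer_iff.mp hg x).mp hx

theorem conj_mem_of_norm' {W : Subgroup G} {g x : G} (hg : g ∈ normalizer (W : Set G)) (hx : x ∈ W) :
    g⁻¹ * x * g ∈ W := by
  have h := conj_mem_of_norm (inv_mem hg) hx
  rwa [inv_inv] at h

theorem comm_mul_left (x₁ x₂ m : G) : ⁅x₁ * x₂, m⁆ = x₁ * ⁅x₂, m⁆ * x₁⁻¹ * ⁅x₁, m⁆ := by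
  simp only [commutatorElement_def]; group

theorem comm_mul_right (x m₁ m₂ : G) : ⁅x, m₁ * m₂⁆ = ⁅x, m₁⁆ * (m₁ * ⁅x, m₂⁆ * m₁⁻¹) := by
  simp only [commutatorElement_def]; group

theorem comm_inv_left (x m : G) : ⁅x⁻¹, m⁆ = x⁻¹ * ⁅x, m⁆⁻¹ * x := by
  simp only [commutatorElement_def]; group

theorem comm_inv_right (x m : G) : ⁅x, m⁻¹⁆ = m⁻¹ * ⁅x, m⁆⁻¹ * m := by
  simp only [commutatorElement_def]; group

/-- `{m ∈ M : [x, m] ∈ W}` for `M ≤ N(W)` -/
def stabComm (M W : Subgroup G) (hMW : M ≤ normalizer (W : Set G)) (x : G) : Subgroup G where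
  carrier := {m | m ∈ M ∧ ⁅x, m⁆ ∈ W}
  one_mem' := ⟨M.one_mem, by rw [commutatorElement_one_right]; exact W.one_mem⟩
  mul_mem' := by
    rintro m₁ m₂ ⟨h1, h2⟩ ⟨h3, h4⟩
    refine ⟨M.mul_mem h1 h3, ?_⟩
    rw [comm_mul_right]
    exact W.mul_mem h2 (conj_mem_of_norm (hMW h1) h4)
  inv_mem' := by
    rintro m ⟨h1, h2⟩
    refine ⟨M.inv_mem h1, ?_⟩
    rw [comm_inv_right]
    exact conj_mem_of_norm' (hMW h1) (W.inv_mem h2)

theorem mem_stabComm {M W : Subgroup G} {hMW : M ≤ normalizer (W : Set G)} {x m : G} :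
    m ∈ stabComm M W hMW x ↔ m ∈ M ∧ ⁅x, m⁆ ∈ W := Iff.rfl

end conj

variable {G : Type u} [Group G] [Finite G] {F : G → Subgroup G → Prop} {Wf : Subgroup G → Subgroup G}
  {Q : Type v} [Group Q] {M Y W : Subgroup G}

/-- if `[x, v] ∈ W` for all involutions `v` of `M` then `[x, m] ∈ W` for all `m ∈ M` -/
theorem Ty.comm_of_inv (h : Ty Q M) (hQ : QFacts Q) (hMW : M ≤ normalizer (W : Set G)) {x : G}
    (hx : ∀ v ∈ M, v * v = 1 → v ≠ 1 → ⁅x, v⁆ ∈ W) : ∀ m ∈ M, ⁅x, m⁆ ∈ W := by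
  have h1 : M ≤ stabComm M W hMW x := h.le_of_inv hQ fun m hm h1 h2 => ⟨hm, hx m hm h1 h2⟩
  exact fun m hm => (h1 hm).2

/-- a 2-component of `C(b)` is normalized by an element commuting with `b` and centralizing a covering `M` -/
theorem fixes_of_centralizes {b g : G} {L : Subgroup G} (hM : IsComp M M)
    (hL : IsComp (centralizer ({b} : Set G)) L) (hs : M ⊔ core L = L) (hgb : g * b = b * g)
    (hgM : ∀ m ∈ M, g * m = m * g) : Fixes g L := by
  have hML : M ≤ L := by rw [← hs]; exact le_sup_left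
  have hMg : cj g M = M := cj_of_comm' hgM
  have h1 : cj g L = L := by
    refine hM.unique (isComp_cj_of_mem hL (mem_c hgb)) hL ?_ hML
    rw [← hMg]; exact cj_mono hML
  have hgM' : g ∈ normalizer (M : Set G) := mem_normalizer_iff_cj.mpr hMg
  have h2 : Fixes g M := ⟨hgM', fun m hm => by
    have : ⁅g, m⁆ = 1 := by rw [commutatorElement_def, hgM m hm]; group
    rw [this]; exact one_mem _⟩
  exact (fixes_iff_of_sup hs hgM' (mem_normalizer_iff_cj.mpr h1)).mp h2

omit [Finite G] in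
theorem Frame.mem_centralizer (hf : Frame F M Y) {y m : G} (hy : y ∈ Y) (hm : m ∈ M) :
    m ∈ centralizer ({y} : Set G) := mem_c (hf.comm y hy m hm).symm

/-- **(2)(i)**: `C_{O(C(y))}(y')` centralizes `M` modulo `W` -/
theorem HasW.comm_one (w : World F Wf Q) (hf : Frame F M Y) (h : HasW Wf M Y W) {y y' : G} (hy : y ∈ Y)
    (hy1 : y ≠ 1) (hy' : y' ∈ Y) {z : G} (hz : z ∈ core (centralizer ({y} : Set G)))
    (hne : y' ≠ 1) (hne' : y' ≠ y) (hzy : z * y' = y' * z) : ∀ m ∈ M, ⁅z, m⁆ ∈ W := by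
  have hty := hf.ty w
  have hzyy : z * y = y * z := comm_c (Intrinsic.Basic.core_le _ hz)
  refine hty.comm_of_inv w.qf (h.M_le w hf) fun v hv hvv hv1 => ?_
  have hvC : v ∈ centralizer ({y} : Set G) := hf.mem_centralizer hy hv
  have hcO : ⁅z, v⁆ ∈ core (centralizer ({y} : Set G)) := by
    rw [commutatorElement_def, mul_assoc, mul_assoc, ← mul_assoc v]
    exact mul_mem hz (Triple.conj_core hvC (inv_mem hz))
  have hdel : Del Y ⁅z, v⁆ := by
    intro b hb hb1
    by_cases hby : b = y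
    · rw [hby]; exact hcO
    obtain ⟨L, hL, hML, hs⟩ := hf.up b hb hb1
    have hLc := w.fam.comp hL
    -- `z` commutes with `b`
    have hzb : z * b = b * z := by
      have h4 := hf.four.eq_quad hy hy' hy1 hne (Ne.symm hne')
      rw [h4] at hb
      rcases hb with rfl | rfl | rfl | rfl
      · exact absurd rfl hb1
      · exact absurd rfl hby
      · exact hzy
      · calc z * (y * y') = (z * y) * y' := by group
          _ = y * (z * y') := by rw [hzyy]; group
          _ = y * y' * z := by rw [hzy]; group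
    have hfz : Fixes z L := by
      by_contra hno
      have hT : Triple.IsTriple y b L :=
        ⟨orderOf_of_sq (hf.four.sq y hy) hy1, orderOf_of_sq (hf.four.sq b hb) hb1, hf.four.comm hb hy,
          hLc, z, hz, mem_c hzb, hno⟩
      exact hT.not_fixes (fixes_of_centralizes hf.comp hLc hs (hf.four.comm hy hb)
        (fun m hm => hf.comm y hy m hm))
    exact hLc.core_le_core (hfz.2 v (hML hv))
  obtain ⟨V, hV, hVM, hvV⟩ := hty.exists_four w.qf hv hvv hv1
  have h1 : ⁅⁅z, v⁆, v⁆ ∈ W := h.del_comm w hf hV hVM (B := Y) le_sup_left hf.four.card hdel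
    (mem_sup_right hvV)
  exact mem_of_comm_mem (odd_card_core _) hcO hvv (inv_commutator hvv) h1

/-- **(2) = (B')**: `[O(C(y)), M] ≤ W` for `y ∈ Y#` -/
theorem HasW.bprime (w : World F Wf Q) (hf : Frame F M Y) (h : HasW Wf M Y W) {y : G} (hy : y ∈ Y)
    (hy1 : y ≠ 1) : ∀ x ∈ core (centralizer ({y} : Set G)), ∀ m ∈ M, ⁅x, m⁆ ∈ W := by
  have hty := hf.ty w
  obtain ⟨y', hy', hy'1, hne⟩ := hf.four.exists_ne y
  obtain ⟨t, ht, htt, ht1, s, hs, hst, hsc, htor⟩ := w.func.tor M Y hf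
  have hMW := h.M_le w hf
  have hYW := h.Y_le w hf
  obtain ⟨O, hO⟩ : ∃ O, O = core (centralizer ({y} : Set G)) := ⟨_, rfl⟩
  have hOW : O ≤ normalizer (W : Set G) := by rw [hO]; exact h.core_le w hf hy hy1
  have hOodd : Odd (Nat.card O) := by rw [hO]; exact odd_card_core _
  have hOy : ∀ x ∈ O, x * y = y * x := by
    intro x hx
    rw [hO] at hx
    exact comm_c (Intrinsic.Basic.core_le _ hx)
  have hC0 : ∀ z ∈ O, z * y' = y' * z → ∀ m ∈ M, ⁅z, m⁆ ∈ W := by
    intro z hz hzy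
    rw [hO] at hz
    exact h.comm_one w hf hy hy1 hy' hz hy'1 hne hzy
  have hMO : M ≤ normalizer (O : Set G) := by
    rw [hO]
    exact fun m hm => le_normalizer_core _ (hf.mem_centralizer hy hm)
  have hy'O : y' ∈ normalizer (O : Set G) := by
    rw [hO]
    exact le_normalizer_core _ (mem_c (hf.four.comm hy' hy))
  rw [← hO]
  have hty' : t * y' = y' * t := (hf.comm y' hy' t ht).symm
  have hyy := hf.four.sq y hy
  have hyy' := hf.four.sq y' hy'
  have htney : ∀ b ∈ Y, t ≠ b := by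
    rintro b hb rfl
    exact ht1 (hf.not_mem w hb ht)
  -- the induction
  have key : ∀ n : ℕ, ∀ X : Subgroup G, Nat.card X = n → X ≤ O → M ≤ normalizer (X : Set G) →
      y' ∈ normalizer (X : Set G) → ∀ x ∈ X, ∀ m ∈ M, ⁅x, m⁆ ∈ W := by
    intro n
    induction n using Nat.strong_induction_on with
    | _ n ih =>
    intro X hXn hXO hMX hyX
    by_cases hXb : X = ⊥
    · intro x hx m _
      rw [hXb, mem_bot] at hx
      rw [hx, commutatorElement_one_left]
      exact one_mem _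
    have hXodd : Odd (Nat.card X) := hOodd.of_dvd_nat (card_dvd_of_le hXO)
    -- the derived subgroup
    obtain ⟨X', hX'⟩ : ∃ X', X' = ⁅X, X⁆ := ⟨_, rfl⟩
    have hX'X : X' ≤ X := by
      rw [hX', commutator_le]
      intro a ha b hb
      rw [commutatorElement_def]
      exact mul_mem (mul_mem (mul_mem ha hb) (inv_mem ha)) (inv_mem hb)
    have hX'ne : X' ≠ X := by
      intro he
      have hsol := w.sol X hXodd
      have h1 : ⁅(⊤ : Subgroup X), (⊤ : Subgroup X)⁆ = (⊤ : Subgroup X) := by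
        apply Subgroup.map_injective X.subtype_injective
        rw [Subgroup.map_commutator, ← MonoidHom.range_eq_map, Subgroup.range_subtype, ← hX', he]
      have hnt : Nontrivial X := (Subgroup.nontrivial_iff_ne_bot X).mpr hXb
      exact (Group.IsSolvable.commutator_lt_top_of_nontrivial X).ne h1
    have hnormX' : ∀ g : G, g ∈ normalizer (X : Set G) → g ∈ normalizer (X' : Set G) := by
      intro g hg
      rw [mem_normalizer_iff_cj] at hg ⊢
      rw [hX', cj_def, Subgroup.map_commutator, ← cj_def, hg]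
    have hlt : Nat.card X' < n := by
      rw [← hXn]
      exact lt_of_le_of_ne (card_le_of_le hX'X) (fun he => hX'ne (eq_of_le_of_card_ge hX'X he.ge))
    have hIH := ih _ hlt X' rfl (hX'X.trans hXO) (fun m hm => hnormX' m (hMX hm)) (hnormX' y' hyX)
    have hXW : ∀ x ∈ X, x ∈ normalizer (W : Set G) := fun x hx => hOW (hXO hx)
    -- `C = C_X(M mod W)`
    obtain ⟨C, hC⟩ : ∃ C : Subgroup G, ∀ x, x ∈ C ↔ x ∈ X ∧ ∀ m ∈ M, ⁅x, m⁆ ∈ W := by
      refine ⟨{ carrier := {x | x ∈ X ∧ ∀ m ∈ M, ⁅x, m⁆ ∈ W}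
                one_mem' := ⟨X.one_mem, fun m _ => by
                  rw [commutatorElement_one_left]; exact W.one_mem⟩
                mul_mem' := ?_
                inv_mem' := ?_ }, fun x => Iff.rfl⟩
      · rintro a b ⟨h1, h2⟩ ⟨h3, h4⟩
        refine ⟨mul_mem h1 h3, fun m hm => ?_⟩
        rw [comm_mul_left]
        exact mul_mem (conj_mem_of_norm (hXW a h1) (h4 m hm)) (h2 m hm)
      · rintro a ⟨h1, h2⟩
        refine ⟨inv_mem h1, fun m hm => ?_⟩
        rw [comm_inv_left]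
        exact conj_mem_of_norm' (hXW a h1) (inv_mem (h2 m hm))
    have hX'C : X' ≤ C := fun x hx => (hC x).mpr ⟨hX'X hx, hIH x hx⟩
    have hCX : C ≤ X := fun x hx => ((hC x).mp hx).1
    have hCn : ∀ x ∈ X, ∀ c ∈ C, x * c * x⁻¹ ∈ C := by
      intro x hx c hc
      have h1 : ⁅x, c⁆ ∈ C := hX'C (by rw [hX']; exact commutator_mem_commutator hx (hCX hc))
      have h2 : x * c * x⁻¹ = ⁅x, c⁆ * c := by rw [commutatorElement_def]; group
      rw [h2]
      exact mul_mem h1 hc
    have hCM : ∀ m ∈ M, ∀ c ∈ C, m * c * m⁻¹ ∈ C := by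
      intro m hm c hc
      refine (hC _).mpr ⟨conj_mem_of_norm (hMX hm) (hCX hc), fun m' hm' => ?_⟩
      have h1 : ⁅m * c * m⁻¹, m'⁆ = m * ⁅c, m⁻¹ * m' * m⁆ * m⁻¹ := by
        simp only [commutatorElement_def]; group
      rw [h1]
      exact conj_mem_of_norm (hMW hm) (((hC c).mp hc).2 _ (mul_mem (mul_mem (inv_mem hm) hm') hm))
    have hCM' : ∀ m ∈ M, ∀ c ∈ C, m⁻¹ * c * m ∈ C := by
      intro m hm c hc
      have := hCM m⁻¹ (inv_mem hm) c hc
      rwa [inv_inv] at this
    -- the pieces `C_X(w)`, `w ∈ {t, ty'}`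
    have hpiece : ∀ b ∈ Y, (b = 1 ∨ b = y') → ∀ x ∈ X, x * (t * b) = (t * b) * x → ⁅x, s⁆ ∈ C := by
      intro b hb hb' x hx hxw
      obtain ⟨c, hc⟩ : ∃ c, c = ⁅x, s⁆ := ⟨_, rfl⟩
      have hcX : c ∈ X := by
        rw [hc, commutatorElement_def, mul_assoc, mul_assoc, ← mul_assoc s]
        exact mul_mem hx (conj_mem_of_norm (hMX hs) (inv_mem hx))
      have hxO : x ∈ core (centralizer ({y} : Set G)) := hO ▸ hXO hx
      have e1 : c ∈ core (centralizer ({t * b} : Set G)) := by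
        rw [hc]; exact htor y hy hy1 b hb x hxO hxw
      have e2 : c ∈ core (centralizer ({t * (b * y)} : Set G)) := by
        rw [hc]
        refine htor y hy hy1 (b * y) (mul_mem hb hy) x hxO ?_
        calc x * (t * (b * y)) = (x * (t * b)) * y := by group
          _ = (t * b) * (x * y) := by rw [hxw]; group
          _ = t * (b * y) * x := by rw [hOy x (hXO hx)]; group
      -- `B = ⟨w, y⟩`
      obtain ⟨V, hV, hVM, htV⟩ := hty.exists_four w.qf ht htt ht1
      have htb : t * b = b * t := (hf.comm b hb t ht).symm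
      have hww : (t * b) * (t * b) = 1 := by
        calc (t * b) * (t * b) = t * (b * t) * b := by group
          _ = t * (t * b) * b := by rw [htb]
          _ = (t * t) * (b * b) := by group
          _ = 1 := by rw [htt, hf.four.sq b hb, one_mul]
      have hwy : (t * b) * y = y * (t * b) := by
        calc (t * b) * y = t * (b * y) := by group
          _ = t * (y * b) := by rw [hf.four.comm hb hy]
          _ = (t * y) * b := by group
          _ = (y * t) * b := by rw [hf.comm y hy t ht]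
          _ = y * (t * b) := by group
      have hw1 : t * b ≠ 1 := by
        intro he
        apply htney b hb
        calc t = t * b * b⁻¹ := by group
          _ = b⁻¹ := by rw [he, one_mul]
          _ = b := inv_of_sq (hf.four.sq b hb)
      have hwney : t * b ≠ y := by
        intro he
        apply htney (y * b) (mul_mem hy hb)
        calc t = t * b * b⁻¹ := by group
          _ = y * b := by rw [he, inv_of_sq (hf.four.sq b hb)]
      have hB4 := card_quad hww hyy hwy hw1 hy1 hwney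
      have hBle : quad hww hyy hwy ≤ Y ⊔ V :=
        quad_le (mul_mem (mem_sup_right htV) (mem_sup_left hb)) (mem_sup_left hy)
      have hdel : Del (quad hww hyy hwy) c := by
        intro d hd hd1
        rcases hd with rfl | rfl | rfl | rfl
        · exact absurd rfl hd1
        · exact e1
        · rw [← hO]; exact hXO hcX
        · rw [show t * b * y = t * (b * y) by group]; exact e2
      have h1 : ⁅c, y'⁆ ∈ W := h.del_comm w hf hV hVM hBle hB4 hdel (mem_sup_left hy')
      have hcO : c ∈ O := hXO hcX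
      have h2 : ⁅c, y'⁆ ∈ O := by
        rw [commutatorElement_def, mul_assoc, mul_assoc, ← mul_assoc y']
        exact mul_mem hcO (conj_mem_of_norm hy'O (inv_mem hcO))
      have hu : y' * (c⁻¹ * y' * c) ∈ W ⊓ O := by
        have h3 : y' * (c⁻¹ * y' * c) = (c⁻¹ * ⁅c, y'⁆ * c) := by
          rw [commutatorElement_def, inv_of_sq hyy']; group
        rw [h3]
        exact ⟨conj_mem_of_norm' (hOW hcO) h1, O.mul_mem (O.mul_mem (O.inv_mem hcO) h2) hcO⟩
      obtain ⟨w₁, hw₁, hcw⟩ := SL.exists_fix_lift (W := W ⊓ O)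
        (hOodd.of_dvd_nat (card_dvd_of_le inf_le_right)) hyy' hu
      rw [← hc]
      refine (hC c).mpr ⟨hcX, fun m hm => ?_⟩
      have h4 := hC0 (c * w₁) (mul_mem hcO hw₁.2) hcw m hm
      have h5 : ⁅w₁⁻¹, m⁆ ∈ W := by
        rw [commutatorElement_def, mul_assoc, mul_assoc, ← mul_assoc m]
        exact mul_mem (inv_mem hw₁.1) (conj_mem_of_norm (hMW hm) (by rw [inv_inv]; exact hw₁.1))
      have h6 : c = (c * w₁) * w₁⁻¹ := by group
      rw [h6, comm_mul_left]
      exact mul_mem (conj_mem_of_norm (hOW (mul_mem hcO hw₁.2)) h5) h4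
    -- `[X, s] ≤ C`
    obtain ⟨X₁, hX₁⟩ : ∃ X₁ : Subgroup G, ∀ x, x ∈ X₁ ↔ x ∈ X ∧ ⁅x, s⁆ ∈ C := by
      refine ⟨{ carrier := {x | x ∈ X ∧ ⁅x, s⁆ ∈ C}
                one_mem' := ⟨X.one_mem, by rw [commutatorElement_one_left]; exact C.one_mem⟩
                mul_mem' := ?_
                inv_mem' := ?_ }, fun x => Iff.rfl⟩
      · rintro a b ⟨h1, h2⟩ ⟨h3, h4⟩
        refine ⟨mul_mem h1 h3, ?_⟩
        rw [comm_mul_left]
        exact mul_mem (hCn a h1 _ h4) h2
      · rintro a ⟨h1, h2⟩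
        refine ⟨inv_mem h1, ?_⟩
        rw [comm_inv_left]
        have := hCn a⁻¹ (inv_mem h1) _ (inv_mem h2)
        rwa [inv_inv] at this
    have hXX₁ : X ≤ X₁ := by
      refine odd_gen hXodd htt hyy' hty' ht1 hy'1 (htney y' hy') (hMX ht) hyX ?_ ?_ ?_
      · intro z hz hzt
        refine (hX₁ z).mpr ⟨hz, hpiece 1 Y.one_mem (Or.inl rfl) z hz ?_⟩
        rw [mul_one]; exact hzt
      · intro z hz hzy
        have hzC : z ∈ C := (hC z).mpr ⟨hz, hC0 z (hXO hz) hzy⟩
        refine (hX₁ z).mpr ⟨hz, ?_⟩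
        rw [commutatorElement_def, mul_assoc, mul_assoc, ← mul_assoc s]
        exact mul_mem hzC (hCM s hs _ (inv_mem hzC))
      · intro z hz hzw
        exact (hX₁ z).mpr ⟨hz, hpiece y' hy' (Or.inr rfl) z hz hzw⟩
    -- `[X, M] ≤ C`
    obtain ⟨S, hS⟩ : ∃ S : Subgroup G, ∀ m, m ∈ S ↔ m ∈ M ∧ ∀ x ∈ X, ⁅x, m⁆ ∈ C := by
      refine ⟨{ carrier := {m | m ∈ M ∧ ∀ x ∈ X, ⁅x, m⁆ ∈ C}
                one_mem' := ⟨M.one_mem, fun x _ => by
                  rw [commutatorElement_one_right]; exact C.one_mem⟩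
                mul_mem' := ?_
                inv_mem' := ?_ }, fun x => Iff.rfl⟩
      · rintro a b ⟨h1, h2⟩ ⟨h3, h4⟩
        refine ⟨mul_mem h1 h3, fun x hx => ?_⟩
        rw [comm_mul_right]
        exact mul_mem (h2 x hx) (hCM a h1 _ (h4 x hx))
      · rintro a ⟨h1, h2⟩
        refine ⟨inv_mem h1, fun x hx => ?_⟩
        rw [comm_inv_right]
        exact hCM' a h1 _ (inv_mem (h2 x hx))
    have hMS : M ≤ S := by
      refine hty.normal_le w.qf (fun m hm => ((hS m).mp hm).1) ?_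
        (n₀ := s) ((hS s).mpr ⟨hs, fun x hx => ((hX₁ x).mp (hXX₁ hx)).2⟩) hsc
      intro n hn m hm
      obtain ⟨h1, h2⟩ := (hS m).mp hm
      refine (hS _).mpr ⟨mul_mem (mul_mem hn h1) (inv_mem hn), fun x hx => ?_⟩
      have h3 : ⁅x, n * m * n⁻¹⁆ = n * ⁅n⁻¹ * x * n, m⁆ * n⁻¹ := by
        simp only [commutatorElement_def]; group
      rw [h3]
      exact hCM n hn _ (h2 _ (conj_mem_of_norm' (hMX hn) hx))
    intro x hx
    refine hty.comm_of_inv w.qf hMW fun v hv hvv hv1 => ?_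
    have h1 : ⁅x, v⁆ ∈ C := ((hS v).mp (hMS hv)).2 x hx
    exact mem_of_comm_mem hXodd (hCX h1) hvv (inv_commutator hvv) (((hC _).mp h1).2 v hv)
  exact key _ O rfl le_rfl hMO hy'O

end Cfsg.Agent.UGT.P3
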