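import Cfsg.Agent.UGT.P3.Defs
import Cfsg.Agent.SignalizersComponents.CoprimeGen

/-!
# PIECE 3: elementary tools

* `quad a b`: the four-group `{1, a, b, ab}`; `odd_gen`: generation of odd groups by centralizers.
* tools for a subgroup `M` which is its own 2-component with `M / O(M) ≅ Q`: `normal_eq`, `le_of_inv`,
  `exists_inv`, `exists_comm_inv`, `exists_conj_inv`, `gam_le`.
-/

set_option autoImplicit false

open Cfsg Subgroup
open Cfsg.Agent.SignalizersComponents Cfsg.Agent.Lib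
open Cfsg.Agent.SignalizersComponents.IntrinsicBasic
open Cfsg.Agent.SignalizersComponents.PLayerAut
open Cfsg.Agent.Intrinsic.Basic Cfsg.Agent.Intrinsic.Cen Cfsg.Agent.Intrinsic.Diag
open Cfsg.Agent.McLLyComp.Act
open Cfsg.Agent.UGT.TMCBase
open scoped commutatorElement Pointwise

namespace Cfsg.Agent.UGT.P3

universe u v

section elementary

variable {G : Type u} [Group G]

/-- `{1, a, b, ab}` -/
def quad {a b : G} (ha : a * a = 1) (hb : b * b = 1) (hab : a * b = b * a) : Subgroup G where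
  carrier := {x | x = 1 ∨ x = a ∨ x = b ∨ x = a * b}
  one_mem' := Or.inl rfl
  mul_mem' := by
    have e1 : a * b * a = b := by rw [hab, mul_assoc, ha, mul_one]
    have e2 : a * b * b = a := by rw [mul_assoc, hb, mul_one]
    have e3 : a * (a * b) = b := by rw [← mul_assoc, ha, one_mul]
    have e4 : b * (a * b) = a := by rw [← mul_assoc, ← hab, e2]
    have e5 : a * b * (a * b) = 1 := by rw [← mul_assoc, e1, hb]
    rintro x y (rfl | rfl | rfl | rfl) (rfl | rfl | rfl | rfl) <;>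
      simp only [one_mul, mul_one, ha, hb, e1, e2, e3, e4, e5, Set.mem_ofPred_eq, true_or, or_true, ← hab]
  inv_mem' := by
    rintro x (rfl | rfl | rfl | rfl)
    · exact Or.inl inv_one
    · exact Or.inr (Or.inl (inv_of_sq ha))
    · exact Or.inr (Or.inr (Or.inl (inv_of_sq hb)))
    · refine Or.inr (Or.inr (Or.inr ?_))
      rw [mul_inv_rev, inv_of_sq ha, inv_of_sq hb, hab]

theorem mem_quad {a b : G} {ha : a * a = 1} {hb : b * b = 1} {hab : a * b = b * a} {x : G} :
    x ∈ quad ha hb hab ↔ x = 1 ∨ x = a ∨ x = b ∨ x = a * b := Iff.rfl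

theorem left_mem_quad {a b : G} {ha : a * a = 1} {hb : b * b = 1} {hab : a * b = b * a} :
    a ∈ quad ha hb hab := Or.inr (Or.inl rfl)

theorem right_mem_quad {a b : G} {ha : a * a = 1} {hb : b * b = 1} {hab : a * b = b * a} :
    b ∈ quad ha hb hab := Or.inr (Or.inr (Or.inl rfl))

theorem quad_le {a b : G} {ha : a * a = 1} {hb : b * b = 1} {hab : a * b = b * a} {M : Subgroup G}
    (h1 : a ∈ M) (h2 : b ∈ M) : quad ha hb hab ≤ M := by
  rintro x (rfl | rfl | rfl | rfl)
  · exact M.one_mem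
  · exact h1
  · exact h2
  · exact M.mul_mem h1 h2

theorem mul_ne_one_of_ne {a b : G} (hb : b * b = 1) (hne : a ≠ b) : a * b ≠ 1 := fun h => by
  apply hne
  calc a = a * b * b := by rw [mul_assoc, hb, mul_one]
    _ = b := by rw [h, one_mul]

theorem card_quad {a b : G} (ha : a * a = 1) (hb : b * b = 1) (hab : a * b = b * a) (ha1 : a ≠ 1)
    (hb1 : b ≠ 1) (hne : a ≠ b) : Nat.card (quad ha hb hab) = 4 := by
  have h1 : a * b ≠ 1 := mul_ne_one_of_ne hb hne
  have h2 : a * b ≠ a := fun h => hb1 (by simpa using h)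
  have h3 : a * b ≠ b := fun h => ha1 (by simpa using h)
  have hs : ((quad ha hb hab : Subgroup G) : Set G) = {1, a, b, a * b} := by
    ext x
    exact Iff.rfl
  have hc : Nat.card (quad ha hb hab) = Set.ncard ((quad ha hb hab : Subgroup G) : Set G) := rfl
  rw [hc, hs, Set.ncard_insert_of_notMem, Set.ncard_insert_of_notMem, Set.ncard_pair h3.symm]
  · simp only [Set.mem_insert_iff, Set.mem_singleton_iff, not_or]
    exact ⟨hne, h2.symm⟩
  · simp only [Set.mem_insert_iff, Set.mem_singleton_iff, not_or]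
    exact ⟨ha1.symm, hb1.symm, h1.symm⟩

theorem four_quad {a b : G} (ha : a * a = 1) (hb : b * b = 1) (hab : a * b = b * a) (ha1 : a ≠ 1)
    (hb1 : b ≠ 1) (hne : a ≠ b) : Four (quad ha hb hab) where
  sq := by
    rintro x (rfl | rfl | rfl | rfl)
    · exact one_mul 1
    · exact ha
    · exact hb
    · rw [← mul_assoc, hab, mul_assoc b a a, ha, mul_one, hb]
  card := card_quad ha hb hab ha1 hb1 hne

theorem comm_of_sq' {V : Subgroup G} (h : ∀ v ∈ V, v * v = 1) {a b : G} (ha : a ∈ V) (hb : b ∈ V) :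
    a * b = b * a := by
  have h1 := h _ (V.mul_mem ha hb)
  have h2 := h a ha
  have h3 := h b hb
  calc a * b = (a * b)⁻¹ := (inv_of_sq h1).symm
    _ = b * a := by rw [mul_inv_rev, inv_of_sq h2, inv_of_sq h3]

theorem Four.comm {V : Subgroup G} (hV : Four V) {a b : G} (ha : a ∈ V) (hb : b ∈ V) :
    a * b = b * a := comm_of_sq' hV.sq ha hb

theorem Four.isPGroup {V : Subgroup G} (hV : Four V) : IsPGroup 2 V := by
  intro x
  refine ⟨1, ?_⟩
  apply Subtype.ext
  rw [pow_one, pow_two]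
  exact hV.sq x x.2

theorem Four.elem {V : Subgroup G} (hV : ∀ v ∈ V, v * v = 1) : Cfsg.IsElementaryAbelian 2 V := by
  refine ⟨⟨⟨fun x y => Subtype.ext (comm_of_sq' hV x.2 y.2)⟩⟩, fun a ha => ?_⟩
  rw [pow_two]
  exact hV a ha

/-- a four-group is `{1, a, b, ab}` for any two different involutions -/
theorem Four.eq_quad {V : Subgroup G} (hV : Four V) {a b : G} (ha : a ∈ V) (hb : b ∈ V) (ha1 : a ≠ 1)
    (hb1 : b ≠ 1) (hne : a ≠ b) : V = quad (hV.sq a ha) (hV.sq b hb) (hV.comm ha hb) := by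
  have h1 := card_quad (hV.sq a ha) (hV.sq b hb) (hV.comm ha hb) ha1 hb1 hne
  have hfin : Finite V := Nat.finite_of_card_ne_zero (by rw [hV.card]; norm_num)
  refine (Subgroup.eq_of_le_of_card_ge (quad_le ha hb) ?_).symm
  rw [h1, hV.card]

/-- a four-group contains a second involution -/
theorem Four.exists_ne {V : Subgroup G} (hV : Four V) (a : G) : ∃ b ∈ V, b ≠ 1 ∧ b ≠ a := by
  by_contra hno
  push Not at hno
  have hsub : (V : Set G) ⊆ {1, a} := by
    intro x hx
    by_cases h : x = 1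
    · exact Or.inl h
    · exact Or.inr (hno x hx h)
  have hc : Nat.card V = Set.ncard (V : Set G) := rfl
  have h1 := Set.ncard_le_ncard hsub (Set.toFinite _)
  have h2 : Set.ncard ({1, a} : Set G) ≤ 2 := Set.ncard_insert_le _ _ |>.trans (by simp)
  rw [← hc, hV.card] at h1
  omega

theorem Four.exists_ne_one {V : Subgroup G} (hV : Four V) : ∃ b ∈ V, b ≠ 1 := by
  obtain ⟨b, h1, h2, -⟩ := hV.exists_ne 1
  exact ⟨b, h1, h2⟩

theorem Four.conjG {V : Subgroup G} (hV : Four V) (g : G) : Four (cj g V) where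
  sq := by
    intro x hx
    rw [mem_cj] at hx
    have h1 := hV.sq _ hx
    have h2 : x * x = g * (g⁻¹ * x * g * (g⁻¹ * x * g)) * g⁻¹ := by group
    rw [h2, h1, mul_one, mul_inv_cancel]
  card := by
    rw [cj_def, Subgroup.card_map_of_injective (MulAut.conj g).injective]
    exact hV.card

/-! ### products of commuting subgroups -/

theorem mem_sup_of_comm {A B : Subgroup G} (hc : ∀ a ∈ A, ∀ b ∈ B, a * b = b * a) {x : G} :
    x ∈ A ⊔ B ↔ ∃ a ∈ A, ∃ b ∈ B, a * b = x := by
  have hle : A ≤ normalizer (B : Set G) := by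
    intro a ha
    rw [mem_normalizer_iff]
    intro b
    constructor
    · intro hb
      rw [hc a ha b hb, mul_inv_cancel_right]
      exact hb
    · intro hb
      have h1 := hc a ha _ hb
      have h2 : b = a * b * a⁻¹ := by
        have h3 : a * b = a * b * a⁻¹ * a := by group
        have h4 : a * (a * b * a⁻¹) = a * b := by rw [h1]; group
        exact (mul_left_cancel h4).symm
      rw [h2]
      exact hb
  have h1 : x ∈ ((A ⊔ B : Subgroup G) : Set G) ↔ x ∈ (A : Set G) * (B : Set G) := by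
    rw [Subgroup.coe_mul_of_left_le_normalizer_right _ _ hle]
  constructor
  · intro hx
    obtain ⟨a, ha, b, hb, h⟩ := h1.mp hx
    exact ⟨a, ha, b, hb, h⟩
  · rintro ⟨a, ha, b, hb, rfl⟩
    exact mul_mem (mem_sup_left ha) (mem_sup_right hb)

theorem card_sup {A B : Subgroup G} (hc : ∀ a ∈ A, ∀ b ∈ B, a * b = b * a)
    (hd : ∀ x ∈ A, x ∈ B → x = 1) : Nat.card ↥(A ⊔ B) = Nat.card A * Nat.card B := by
  rw [← Nat.card_prod]
  refine (Nat.card_congr (Equiv.ofBijective
    (fun x : A × B => (⟨(x.1 : G) * x.2, mul_mem (mem_sup_left x.1.2) (mem_sup_right x.2.2)⟩ :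
      ↥(A ⊔ B))) ⟨?_, ?_⟩)).symm
  · rintro ⟨a, b⟩ ⟨a', b'⟩ h
    have h1 : (a : G) * b = a' * b' := congrArg Subtype.val h
    have h2 : (a' : G)⁻¹ * a = b' * (b : G)⁻¹ := by
      calc (a' : G)⁻¹ * a = (a' : G)⁻¹ * (a * b) * (b : G)⁻¹ := by group
        _ = b' * (b : G)⁻¹ := by rw [h1]; group
    have h3 : (a' : G)⁻¹ * a = 1 :=
      hd _ (mul_mem (inv_mem a'.2) a.2) (by rw [h2]; exact mul_mem b'.2 (inv_mem b.2))
    have h4 : (a : G) = a' := by
      have := congrArg (fun z => (a' : G) * z) h3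
      simpa using this
    have h5 : (b : G) = b' := by
      rw [h4] at h1
      exact mul_left_cancel h1
    exact Prod.ext (Subtype.ext h4) (Subtype.ext h5)
  · rintro ⟨x, hx⟩
    obtain ⟨a, ha, b, hb, h⟩ := (mem_sup_of_comm hc).mp hx
    exact ⟨(⟨a, ha⟩, ⟨b, hb⟩), Subtype.ext h⟩

theorem zpowers_of_sq {a x : G} (ha : a * a = 1) (hx : x ∈ zpowers a) : x = 1 ∨ x = a := by
  obtain ⟨n, rfl⟩ := mem_zpowers_iff.mp hx
  rcases Int.even_or_odd' n with ⟨k, rfl | rfl⟩
  · left
    rw [zpow_mul, zpow_two, ha, one_zpow]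
  · right
    rw [zpow_add, zpow_mul, zpow_two, ha, one_zpow, one_mul, zpow_one]

theorem card_zpowers_of_sq {a : G} (ha : a * a = 1) (ha1 : a ≠ 1) : Nat.card (zpowers a) = 2 := by
  rw [Nat.card_zpowers]
  exact orderOf_eq_prime (by rw [pow_two, ha]) ha1

theorem orderOf_of_sq {a : G} (ha : a * a = 1) (ha1 : a ≠ 1) : orderOf a = 2 :=
  orderOf_eq_prime (by rw [pow_two, ha]) ha1

theorem cj_zpowers (g a : G) : cj g (zpowers a) = zpowers (g * a * g⁻¹) := by
  rw [cj_def, MonoidHom.map_zpowers]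
  rfl

theorem cj_sup (g : G) (A B : Subgroup G) : cj g (A ⊔ B) = cj g A ⊔ cj g B := by
  rw [cj_def, Subgroup.map_sup]
  rfl

theorem card_cj (g : G) (A : Subgroup G) : Nat.card ↥(cj g A) = Nat.card A := by
  rw [cj_def, Subgroup.card_map_of_injective (MulAut.conj g).injective]

/-- a subgroup all of whose elements commute with `g` is fixed by `g` -/
theorem cj_of_comm' {g : G} {A : Subgroup G} (h : ∀ a ∈ A, g * a = a * g) : cj g A = A := by
  apply cj_of_comm
  intro a ha
  exact mem_c (h a ha).symm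

variable [Finite G]

/-- an odd order group is generated by the centralizers of the involutions of a four-group -/
theorem odd_gen {Z T : Subgroup G} (hZ : Odd (Nat.card Z)) {a b : G} (ha : a * a = 1) (hb : b * b = 1)
    (hab : a * b = b * a) (ha1 : a ≠ 1) (hb1 : b ≠ 1) (hne : a ≠ b)
    (hna : a ∈ normalizer (Z : Set G)) (hnb : b ∈ normalizer (Z : Set G))
    (h1 : ∀ z ∈ Z, z * a = a * z → z ∈ T) (h2 : ∀ z ∈ Z, z * b = b * z → z ∈ T)
    (h3 : ∀ z ∈ Z, z * (a * b) = (a * b) * z → z ∈ T) : Z ≤ T := by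
  have h2p : Fact (Nat.Prime 2) := ⟨Nat.prime_two⟩
  have hV := four_quad ha hb hab ha1 hb1 hne
  have hgen := CoprimeGen.le_iSup_centralizer_ne_one (p := 2) (A := quad ha hb hab) (Z := Z)
    (Four.elem hV.sq) (by rw [hV.card]; norm_num)
    (by rw [← even_iff_two_dvd]; exact Nat.not_even_iff_odd.mpr hZ) (quad_le hna hnb)
  refine hgen.trans (iSup_le ?_)
  rintro ⟨c, hc, hc1⟩ z ⟨hz, hzc⟩
  have hzc' : z * c = c * z := comm_c hzc
  rcases hc with rfl | rfl | rfl | rfl
  · exact absurd rfl hc1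
  · exact h1 z hz hzc'
  · exact h2 z hz hzc'
  · exact h3 z hz hzc'

omit [Finite G] in
/-- a 2-group contained in `L` is conjugate into every subgroup of odd index -/
theorem exists_conj_le {P M L : Subgroup G} (hP : IsPGroup 2 P) (hPL : P ≤ L)
    (hodd : Odd (M.relIndex L)) : ∃ l ∈ L, ∀ p ∈ P, l⁻¹ * p * l ∈ M := by
  have h2p : Fact (Nat.Prime 2) := ⟨Nat.prime_two⟩
  obtain ⟨P', hP'⟩ : ∃ P', P' = P.subgroupOf L := ⟨_, rfl⟩
  have hPP : IsPGroup 2 P' := by
    rw [hP']
    exact hP.comap_of_injective L.subtype L.subtype_injective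
  have hcard : ¬ 2 ∣ Nat.card (L ⧸ M.subgroupOf L) := by
    rw [← even_iff_two_dvd]
    exact Nat.not_even_iff_odd.mpr hodd
  obtain ⟨x, hx⟩ := hPP.nonempty_fixed_point_of_prime_not_dvd_card (L ⧸ M.subgroupOf L) hcard
  obtain ⟨l, rfl⟩ := QuotientGroup.mk_surjective x
  refine ⟨l, l.2, fun p hp => ?_⟩
  have h1 := hx ⟨⟨p, hPL hp⟩, by rw [hP']; exact hp⟩
  have h2 : (QuotientGroup.mk (⟨p, hPL hp⟩ * l) : L ⧸ M.subgroupOf L) = QuotientGroup.mk l := h1
  rw [eq_comm, QuotientGroup.eq] at h2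
  have h3 : ((l⁻¹ * (⟨p, hPL hp⟩ * l) : L) : G) ∈ M := h2
  have h4 : ((l⁻¹ * (⟨p, hPL hp⟩ * l) : L) : G) = (l : G)⁻¹ * p * l := by
    push_cast
    group
  rwa [h4] at h3

omit [Finite G] in
/-- an element of an odd order subgroup whose square lies in `H` lies in `H` -/
theorem mem_of_sq_mem' {N H : Subgroup G} (hN : Odd (Nat.card N)) {x : G} (hx : x ∈ N)
    (h : x * x ∈ H) : x ∈ H := by
  have h1 : Odd (orderOf x) := hN.of_dvd_nat (Subgroup.orderOf_dvd_natCard N hx)
  obtain ⟨k, hk⟩ := h1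
  have h2 : x = ((x * x) ^ (k + 1)) := by
    have h3 : (x * x) ^ (k + 1) = x ^ (2 * (k + 1)) := by
      rw [pow_mul, pow_two]
    rw [h3, show 2 * (k + 1) = (2 * k + 1) + 1 by ring, pow_succ, ← hk, pow_orderOf_eq_one, one_mul]
  rw [h2]
  exact pow_mem h _

omit [Finite G] in
/-- the square of a commutator with an involution, when it commutes with the involution modulo `W` -/
theorem mem_of_comm_mem {N W : Subgroup G} (hN : Odd (Nat.card N)) {c v : G} (hc : c ∈ N) (hv : v * v = 1)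
    (hinv : v * c * v = c⁻¹) (hcW : ⁅c, v⁆ ∈ W) : c ∈ W := by
  apply mem_of_sq_mem' hN hc
  have h1 : ⁅c, v⁆ = c * c := by
    rw [commutatorElement_def, inv_of_sq hv]
    calc c * v * c⁻¹ * v = c * (v * c⁻¹ * v) := by group
      _ = c * (v * (v * c * v) * v) := by rw [hinv]
      _ = c * ((v * v) * c * (v * v)) := by group
      _ = c * c := by rw [hv]; group
  rwa [h1] at hcW

omit [Finite G] in
/-- `[x, v]` is inverted by the involution `v` -/
theorem inv_commutator {x v : G} (hv : v * v = 1) : v * ⁅x, v⁆ * v = ⁅x, v⁆⁻¹ := by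
  rw [commutatorElement_def, inv_of_sq hv]
  have h1 : (x * v * x⁻¹ * v)⁻¹ = v⁻¹ * (x * v⁻¹ * x⁻¹) := by group
  rw [h1, inv_of_sq hv]
  calc v * (x * v * x⁻¹ * v) * v = v * (x * v * x⁻¹) * (v * v) := by group
    _ = v * (x * v * x⁻¹) := by rw [hv, mul_one]

end elementary

end Cfsg.Agent.UGT.P3
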