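import Cfsg.Agent.UGT.P3.Basic

/-!
# PIECE 3: subgroups `M` which are their own 2-component, `M / O(M) ≅ Q`
-/

set_option autoImplicit false

open Cfsg Subgroup
open Cfsg.Agent.SignalizersComponents Cfsg.Agent.Lib
open Cfsg.Agent.SignalizersComponents.IntrinsicBasic
open Cfsg.Agent.SignalizersComponents.PLayerAut
open Cfsg.Agent.Intrinsic.Basic Cfsg.Agent.Intrinsic.Cen Cfsg.Agent.Intrinsic.Diag
open Cfsg.Agent.McLLyComp.Act
open Cfsg.Agent.UGT.TMCBase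
open scoped commutatorElement

namespace Cfsg.Agent.UGT.P3

universe u v

/-- `M` is its own 2-component and `M / O(M) ≅ Q`. -/
structure Ty {G : Type u} [Group G] (Q : Type v) [Group Q] (M : Subgroup G) : Prop where
  comp : IsComp M M
  iso : Nonempty ((↥M ⧸ oddCore ↥M) ≃* Q)

variable {G : Type u} [Group G] {Q : Type v} [Group Q] {M : Subgroup G}

theorem Ty.exists_pi (h : Ty Q M) : ∃ π : ↥M →* Q, Function.Surjective π ∧
    ∀ m : M, π m = 1 ↔ (m : G) ∈ core M := by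
  obtain ⟨e⟩ := h.iso
  refine ⟨e.toMonoidHom.comp (QuotientGroup.mk' (oddCore ↥M)), ?_, ?_⟩
  · intro q
    obtain ⟨x, hx⟩ := QuotientGroup.mk'_surjective (oddCore ↥M) (e.symm q)
    refine ⟨x, ?_⟩
    show e (QuotientGroup.mk' (oddCore ↥M) x) = q
    rw [hx, e.apply_symm_apply]
  · intro m
    have h1 : e.toMonoidHom.comp (QuotientGroup.mk' (oddCore ↥M)) m = 1 ↔
        (QuotientGroup.mk' (oddCore ↥M) m) = 1 := by
      show e (QuotientGroup.mk' (oddCore ↥M) m) = 1 ↔ _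
      exact e.map_eq_one_iff
    rw [h1, mem_core_iff m.2]
    exact QuotientGroup.eq_one_iff _

theorem Ty.conjG (h : Ty Q M) (g : G) : Ty Q (cj g M) := by
  refine ⟨h.comp.cj g, ?_⟩
  obtain ⟨e⟩ := h.iso
  exact ⟨(cjQuot g M).symm.trans e⟩

variable [Finite G]

theorem Ty.of_sup {L : Subgroup G} (hM : IsComp M M) (hs : M ⊔ core L = L)
    (e : Nonempty ((↥L ⧸ oddCore ↥L) ≃* Q)) : Ty Q M := by
  refine ⟨hM, ?_⟩
  obtain ⟨e'⟩ := e
  obtain ⟨e1, -⟩ := exists_quotEquiv hs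
  exact ⟨e1.trans e'⟩

theorem Ty.exists_inv (h : Ty Q M) : ∃ m ∈ M, m * m = 1 ∧ m ≠ 1 := by
  have h2p : Fact (Nat.Prime 2) := ⟨Nat.prime_two⟩
  obtain ⟨x, hx⟩ := exists_prime_orderOf_dvd_card' 2 h.comp.even
  refine ⟨x, x.2, ?_, ?_⟩
  · have h1 : x ^ 2 = 1 := by rw [← hx, pow_orderOf_eq_one]
    rw [pow_two] at h1
    exact congrArg Subtype.val h1
  · intro h1
    have h2 : x = 1 := Subtype.ext h1
    rw [h2, orderOf_one] at hx
    exact absurd hx (by norm_num)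

theorem not_mem_core_of_sq {m : G} (hm : m * m = 1) (hm1 : m ≠ 1) : m ∉ core M := fun h =>
  hm1 (eq_one_of_mem_core_sq h hm)

/-- a normal subgroup of `M` not contained in `O(M)` is `M` -/
theorem Ty.normal_le (h : Ty Q M) (hQ : QFacts Q) {N : Subgroup G} (hNM : N ≤ M)
    (hn : ∀ m ∈ M, ∀ n ∈ N, m * n * m⁻¹ ∈ N) {n₀ : G} (h0 : n₀ ∈ N) (h0' : n₀ ∉ core M) : M ≤ N := by
  obtain ⟨π, hπ, hker⟩ := h.exists_pi
  have hsimp := hQ.simple
  have hNn : (N.subgroupOf M).Normal := ⟨fun n hn' m => hn m m.2 n hn'⟩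
  have h1 : ((N.subgroupOf M).map π).Normal := hNn.map π hπ
  have h2 : (N.subgroupOf M).map π = ⊤ := by
    refine h1.eq_bot_or_eq_top.resolve_left fun hb => h0' ?_
    have h3 : π ⟨n₀, hNM h0⟩ = 1 := by
      have : π ⟨n₀, hNM h0⟩ ∈ (N.subgroupOf M).map π := ⟨_, h0, rfl⟩
      rwa [hb, mem_bot] at this
    exact (hker _).mp h3
  refine h.comp.le_of_two fun k hk n hkn => ?_
  have h3 : π ⟨k, hk⟩ ∈ (N.subgroupOf M).map π := by rw [h2]; trivial
  obtain ⟨n', hn', hkn'⟩ := h3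
  have hc : ((n'⁻¹ * ⟨k, hk⟩ : M) : G) ∈ core M := by
    rw [← hker, map_mul, map_inv, hkn', inv_mul_cancel]
  obtain ⟨c, hc'⟩ : ∃ c : M, c = n'⁻¹ * ⟨k, hk⟩ := ⟨_, rfl⟩
  rw [← hc'] at hc
  obtain ⟨r, hr⟩ : ∃ r, r = Nat.card (core M) := ⟨_, rfl⟩
  have hrodd : Odd r := hr ▸ odd_card_core M
  have hcr : c ^ r = 1 := by
    apply Subtype.ext
    have h4 : ((⟨(c : G), hc⟩ : core M)) ^ r = 1 := by rw [hr]; exact pow_card_eq_one'
    have h5 := congrArg Subtype.val h4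
    simpa using h5
  have hk' : (⟨k, hk⟩ : M) = n' * c := by rw [hc']; group
  have h4 : (QuotientGroup.mk' (N.subgroupOf M)) ⟨k, hk⟩ ^ r = 1 := by
    have hmk : QuotientGroup.mk' (N.subgroupOf M) n' = 1 :=
      (QuotientGroup.eq_one_iff (N := N.subgroupOf M) n').mpr hn'
    rw [hk', map_mul, hmk, one_mul, ← map_pow, hcr, map_one]
  have h5 : (QuotientGroup.mk' (N.subgroupOf M)) ⟨k, hk⟩ ^ (2 ^ n) = 1 := by
    rw [← map_pow]
    have : (⟨k, hk⟩ : M) ^ (2 ^ n) = 1 := Subtype.ext hkn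
    rw [this, map_one]
  have h6 : (QuotientGroup.mk' (N.subgroupOf M)) ⟨k, hk⟩ = 1 := by
    have hcop : Nat.Coprime r (2 ^ n) := by
      apply Nat.Coprime.pow_right
      exact (Nat.coprime_two_right).mpr hrodd
    have h7 : orderOf ((QuotientGroup.mk' (N.subgroupOf M)) ⟨k, hk⟩) ∣ Nat.gcd r (2 ^ n) :=
      Nat.dvd_gcd (orderOf_dvd_of_pow_eq_one h4) (orderOf_dvd_of_pow_eq_one h5)
    rw [hcop] at h7
    exact orderOf_eq_one_iff.mp (Nat.dvd_one.mp h7)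
  have h8 : (⟨k, hk⟩ : M) ∈ N.subgroupOf M :=
    (QuotientGroup.eq_one_iff (N := N.subgroupOf M) (⟨k, hk⟩ : M)).mp h6
  exact h8

/-- `M` is generated by its involutions -/
theorem Ty.le_of_inv (h : Ty Q M) (hQ : QFacts Q) {T : Subgroup G}
    (hT : ∀ m ∈ M, m * m = 1 → m ≠ 1 → m ∈ T) : M ≤ T := by
  obtain ⟨N, hN⟩ : ∃ N, N = Subgroup.closure {m : G | m ∈ M ∧ m * m = 1} := ⟨_, rfl⟩
  have hNM : N ≤ M := by
    rw [hN, Subgroup.closure_le]
    exact fun m hm => hm.1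
  have hNT : N ≤ T := by
    rw [hN, Subgroup.closure_le]
    intro m hm
    by_cases h1 : m = 1
    · rw [h1]; exact T.one_mem
    · exact hT m hm.1 hm.2 h1
  obtain ⟨m₀, hm₀, hm₀2, hm₀1⟩ := h.exists_inv
  refine (h.normal_le hQ hNM ?_ (n₀ := m₀) ?_ (not_mem_core_of_sq hm₀2 hm₀1)).trans hNT
  · intro m hm n hn
    rw [hN] at hn ⊢
    induction hn using Subgroup.closure_induction with
    | mem x hx =>
      refine Subgroup.subset_closure ⟨mul_mem (mul_mem hm hx.1) (inv_mem hm), ?_⟩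
      calc m * x * m⁻¹ * (m * x * m⁻¹) = m * (x * x) * m⁻¹ := by group
        _ = 1 := by rw [hx.2]; group
    | one => simp
    | mul x y _ _ hx hy =>
      have : m * (x * y) * m⁻¹ = (m * x * m⁻¹) * (m * y * m⁻¹) := by group
      rw [this]; exact mul_mem hx hy
    | inv x _ hx =>
      have : m * x⁻¹ * m⁻¹ = (m * x * m⁻¹)⁻¹ := by group
      rw [this]; exact inv_mem hx
  · rw [hN]
    exact Subgroup.subset_closure ⟨hm₀, hm₀2⟩

/-- lifting an involution of `Q` commuting with the image of a 2-group `T` -/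
theorem Ty.exists_lift {π : ↥M →* Q} (hπ : Function.Surjective π)
    (hker : ∀ m : M, π m = 1 ↔ (m : G) ∈ core M) {T : Subgroup G} (hT : IsPGroup 2 T) (hTM : T ≤ M)
    {q : Q} (hq : q * q = 1) (hqT : ∀ t (ht : t ∈ T), π ⟨t, hTM ht⟩ * q = q * π ⟨t, hTM ht⟩) :
    ∃ y : M, π y = q ∧ y * y = 1 ∧ ∀ t ∈ T, t * (y : G) = y * t := by
  obtain ⟨x, hx⟩ := hπ q
  obtain ⟨r, hr⟩ : ∃ r, r = Nat.card (core M) := ⟨_, rfl⟩
  have hrodd : Odd r := hr ▸ odd_card_core M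
  have hxx : ((x * x : M) : G) ∈ core M := by rw [← hker, map_mul, hx, hq]
  have h1 : (x ^ r) * (x ^ r) = 1 := by
    have h4 : ((⟨((x * x : M) : G), hxx⟩ : core M)) ^ r = 1 := by rw [hr]; exact pow_card_eq_one'
    have h5 := congrArg Subtype.val h4
    have h6 : (((x * x) ^ r : M) : G) = 1 := by simpa using h5
    have h7 : (x * x) ^ r = 1 := Subtype.ext h6
    rw [← pow_add, ← two_mul, pow_mul, pow_two, h7]
  have h2 : π (x ^ r) = q := by
    obtain ⟨k, hk⟩ := hrodd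
    rw [map_pow, hx, hk, pow_succ, pow_mul, pow_two, hq, one_pow, one_mul]
  obtain ⟨x', hx'⟩ : ∃ x', x' = x ^ r := ⟨_, rfl⟩
  rw [← hx'] at h1 h2
  have hnorm : ∀ m ∈ M, ∀ w ∈ core M, m * w * m⁻¹ ∈ core M := fun m hm w hw =>
    conj_mem_core (le_normalizer hm) hw
  obtain ⟨y, hy1, hy2, hy3⟩ := SL.exists_fixed_involution (odd_card_core M) hT (x := (x' : G))
    (congrArg Subtype.val h1) (hnorm x' x'.2) (fun t ht => hnorm t (hTM ht)) (fun t ht => by
      have h3 : ((x' * (⟨t, hTM ht⟩ * x' * ⟨t, hTM ht⟩⁻¹) : M) : G) ∈ core M := by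
        rw [← hker, map_mul, map_mul, map_mul, map_inv, h2, hqT t ht, mul_inv_cancel_right, hq]
      exact h3)
  have hyM : y ∈ M := by
    have h3 : y = (x' : G)⁻¹ * ((x' : G) * y) := by group
    rw [h3]
    exact mul_mem (inv_mem x'.2) (core_le M hy1)
  refine ⟨⟨y, hyM⟩, ?_, Subtype.ext hy2, hy3⟩
  have h3 : π (x' * ⟨y, hyM⟩) = 1 := (hker _).mpr hy1
  rw [map_mul, h2] at h3
  calc π ⟨y, hyM⟩ = q * q * π ⟨y, hyM⟩ := by rw [hq, one_mul]
    _ = q := by rw [mul_assoc, h3, mul_one]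

theorem Ty.pi_ne_one {π : ↥M →* Q} (hker : ∀ m : M, π m = 1 ↔ (m : G) ∈ core M) {e : G}
    (he : e ∈ M) (hee : e * e = 1) (he1 : e ≠ 1) : π ⟨e, he⟩ ≠ 1 := fun h =>
  not_mem_core_of_sq hee he1 ((hker _).mp h)

/-- every involution of `M` commutes with another one -/
theorem Ty.exists_comm_inv (h : Ty Q M) (hQ : QFacts Q) {e : G} (he : e ∈ M) (hee : e * e = 1)
    (he1 : e ≠ 1) : ∃ f ∈ M, f * f = 1 ∧ f ≠ 1 ∧ f ≠ e ∧ e * f = f * e := by
  obtain ⟨π, hπ, hker⟩ := h.exists_pi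
  have hπe : π ⟨e, he⟩ * π ⟨e, he⟩ = 1 := by
    rw [← map_mul]
    have : (⟨e, he⟩ * ⟨e, he⟩ : M) = 1 := Subtype.ext hee
    rw [this, map_one]
  obtain ⟨f, hff, hf1, hfe, hef⟩ := hQ.four _ hπe (Ty.pi_ne_one hker he hee he1)
  have hT : zpowers e ≤ M := by rwa [zpowers_le]
  obtain ⟨y, hy1, hy2, hy3⟩ := Ty.exists_lift hπ hker (SL.two_isPGroup hee) hT (q := f) hff
    (fun t ht => by
      rcases zpowers_of_sq hee ht with rfl | rfl
      · have : (⟨1, hT ht⟩ : M) = 1 := rfl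
        rw [this, map_one, one_mul, mul_one]
      · exact hef)
  refine ⟨y, y.2, congrArg Subtype.val hy2, ?_, ?_, hy3 e (mem_zpowers e)⟩
  · intro h1
    apply hf1
    have : y = 1 := Subtype.ext h1
    rw [← hy1, this, map_one]
  · intro h1
    apply hfe
    have : y = ⟨e, he⟩ := Subtype.ext h1
    rw [← hy1, this]

/-- one class of involutions -/
theorem Ty.exists_conj_inv (h : Ty Q M) (hQ : QFacts Q) {e f : G} (he : e ∈ M) (hee : e * e = 1)
    (he1 : e ≠ 1) (hf : f ∈ M) (hff : f * f = 1) (hf1 : f ≠ 1) : ∃ m ∈ M, m * e * m⁻¹ = f := by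
  obtain ⟨π, hπ, hker⟩ := h.exists_pi
  have hsq : ∀ e (he : e ∈ M), e * e = 1 → π ⟨e, he⟩ * π ⟨e, he⟩ = 1 := by
    intro e he hee
    rw [← map_mul]
    have : (⟨e, he⟩ * ⟨e, he⟩ : M) = 1 := Subtype.ext hee
    rw [this, map_one]
  obtain ⟨g, hg⟩ := hQ.conj _ _ (hsq e he hee) (Ty.pi_ne_one hker he hee he1) (hsq f hf hff)
    (Ty.pi_ne_one hker hf hff hf1)
  obtain ⟨m, rfl⟩ := hπ g
  have h1 : ((m * ⟨e, he⟩ * m⁻¹ * ⟨f, hf⟩ : M) : G) ∈ core M := by
    rw [← hker, map_mul, map_mul, map_mul, map_inv, hg, hsq f hf hff]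
  have h2 : ((m : G) * e * (m : G)⁻¹) * ((m : G) * e * (m : G)⁻¹) = 1 := by
    calc (m : G) * e * (m : G)⁻¹ * ((m : G) * e * (m : G)⁻¹) = m * (e * e) * (m : G)⁻¹ := by group
      _ = 1 := by rw [hee]; group
  obtain ⟨w, hw, hwe⟩ := SL.conj_of_coset (odd_card_core M) h2 hff h1
  refine ⟨w * m, mul_mem (core_le M hw) m.2, ?_⟩
  rw [← hwe]
  group

omit [Finite G] in
theorem core_subgroupOf (M : Subgroup G) : (core M).subgroupOf M = oddCore ↥M := by
  exact Subgroup.comap_map_eq_self_of_injective M.subtype_injective _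

omit [Finite G] in
theorem Ty.gamAut (h : Ty Q M) (hQ : QFacts Q) (hn : ((core M).subgroupOf M).Normal) :
    SL.GamAut (↥M ⧸ (core M).subgroupOf M) := by
  obtain ⟨e⟩ := h.iso
  exact hQ.gam.congr ((QuotientGroup.quotientMulEquivOfEq (core_subgroupOf M)).trans e).symm

omit [Finite G] in
/-- an involution of `M` acts nontrivially on `M / O(M)` -/
theorem Ty.not_central (h : Ty Q M) (hQ : QFacts Q) {e : G} (he : e ∈ M) (hec : e ∉ core M) :
    ∃ x ∈ M, x⁻¹ * (e * x * e⁻¹) ∉ core M := by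
  obtain ⟨π, hπ, hker⟩ := h.exists_pi
  by_contra hno
  push Not at hno
  have hsimp := hQ.simple
  have h1 : π ⟨e, he⟩ ∈ center Q := by
    rw [mem_center_iff]
    intro q
    obtain ⟨x, rfl⟩ := hπ q
    have h2 := hno x x.2
    have h3 : ((x⁻¹ * (⟨e, he⟩ * x * ⟨e, he⟩⁻¹) : M) : G) ∈ core M := h2
    rw [← hker, map_mul, map_mul, map_mul, map_inv, map_inv] at h3
    have h4 : π ⟨e, he⟩ * π x * (π ⟨e, he⟩)⁻¹ = π x := by
      calc π ⟨e, he⟩ * π x * (π ⟨e, he⟩)⁻¹ = π x * ((π x)⁻¹ * (π ⟨e, he⟩ * π x * (π ⟨e, he⟩)⁻¹)) := by group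
        _ = π x := by rw [h3, mul_one]
    calc π x * π ⟨e, he⟩ = π ⟨e, he⟩ * π x * (π ⟨e, he⟩)⁻¹ * π ⟨e, he⟩ := by rw [h4]
      _ = π ⟨e, he⟩ * π x := by group
  have h2 : center Q = ⊥ := by
    refine (inferInstance : (center Q).Normal).eq_bot_or_eq_top.resolve_right fun ht => hQ.nab ?_
    intro x y
    have : y ∈ center Q := by rw [ht]; trivial
    exact (mem_center_iff.mp this x)
  rw [h2, mem_bot] at h1
  exact hec ((hker _).mp h1)

/-- (Gam) inside `M` -/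
theorem Ty.gam_le (h : Ty Q M) (hQ : QFacts Q) {a b : G} (ha : a ∈ M) (hb : b ∈ M) (haa : a * a = 1)
    (hbb : b * b = 1) (hab : a * b = b * a) (ha1 : a ≠ 1) (hb1 : b ≠ 1) (hne : a ≠ b) {T : Subgroup G}
    (h1 : ∀ x ∈ M, x * a = a * x → x ∈ T) (h2 : ∀ x ∈ M, x * b = b * x → x ∈ T)
    (h3 : ∀ x ∈ M, x * (a * b) = (a * b) * x → x ∈ T) : M ≤ T := by
  have hn : ((core M).subgroupOf M).Normal := by rw [core_subgroupOf]; infer_instance
  have hc : ∀ {x : G}, x ∈ M → x ∈ normalizer (core M : Set G) := fun hx => le_normalizer_core M hx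
  have hab1 : a * b ≠ 1 := mul_ne_one_of_ne hbb hne
  have habab : (a * b) * (a * b) = 1 := (four_quad haa hbb hab ha1 hb1 hne).sq _ (Or.inr (Or.inr (Or.inr rfl)))
  refine SL.gam_mod' hn (core_le M) (odd_card_core M) (h.gamAut hQ hn) haa hbb hab (le_normalizer ha) (hc ha)
    (le_normalizer hb) (hc hb) (h.not_central hQ ha (not_mem_core_of_sq haa ha1))
    (h.not_central hQ hb (not_mem_core_of_sq hbb hb1))
    (h.not_central hQ (mul_mem ha hb) (not_mem_core_of_sq habab hab1)) T ?_ h1 h2 h3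
  exact odd_gen (odd_card_core M) haa hbb hab ha1 hb1 hne (hc ha) (hc hb)
    (fun z hz => h1 z (core_le M hz)) (fun z hz => h2 z (core_le M hz)) (fun z hz => h3 z (core_le M hz))

end Cfsg.Agent.UGT.P3
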