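import Cfsg.Agent.UGT.TMCBase
import Cfsg.Agent.UGT.SLEnd

/-!
# PIECE 3 (helper964): frames, the data

`F` is a family of pairs `(t, L)` (`L` a 2-component of `C(t)`) with all pump-ups trivial or diagonal
(`TMCBase.Fam ⊤ F`), `L / O(L) ≅ Q` for all pairs.

* `Frame F M Y`: `M` perfect, its own 2-component, `Y ≤ C(M)` a four-group, `M O(L) = L` for a pair `(y, L)` for all
  `y ∈ Y#`.
* `Func F Wf`: the functor `D ↦ Wf D` (`|D| = 8`) and the statement (A) on the tori.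
* `QFacts Q`: the properties of the simple group `Q` that are used.
* `World F Wf Q`: everything.

The elementwise consequences of simplicity of `M / O(M)` are `World.normal_eq`, `IsComp.closure_inv`.
-/

set_option autoImplicit false

open Cfsg Subgroup
open Cfsg.Agent.SignalizersComponents Cfsg.Agent.Lib
open Cfsg.Agent.SignalizersComponents.IntrinsicBasic
open Cfsg.Agent.SignalizersComponents.PLayerAut
open Cfsg.Agent.Intrinsic.Basic Cfsg.Agent.Intrinsic.Cen Cfsg.Agent.Intrinsic.Diag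
open Cfsg.Agent.McLLyComp.Act
open Cfsg.Agent.UGT.TMCBase
open scoped commutatorElement

namespace Cfsg.Agent.UGT.P3

universe u v

section defs

variable {G : Type u} [Group G]

/-- elementary abelian of order 4 -/
structure Four (V : Subgroup G) : Prop where
  sq : ∀ v ∈ V, v * v = 1
  card : Nat.card V = 4

/-- `z ∈ Δ(B) = ⋂ O(C(b))`, `b ∈ B#` -/
def Del (B : Subgroup G) (z : G) : Prop := ∀ b ∈ B, b ≠ 1 → z ∈ core (centralizer ({b} : Set G))

/-- A frame `(M, Y)`. -/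
structure Frame (F : G → Subgroup G → Prop) (M Y : Subgroup G) : Prop where
  comp : IsComp M M
  comm : ∀ y ∈ Y, ∀ m ∈ M, y * m = m * y
  four : Four Y
  up : ∀ y ∈ Y, y ≠ 1 → ∃ L, F y L ∧ M ≤ L ∧ M ⊔ core L = L

/-- **Statement (A)** (the tori): for the frame `(M, Y)` there are an involution `t` of `M` and
`s ∈ C_M(t)`, `s ∉ O(M)`, with `[O(C(y)) ∩ C(w), s] ≤ O(C(w))` for `y ∈ Y#`, `w ∈ tY`. -/
def Tor (M Y : Subgroup G) : Prop :=
  ∃ t ∈ M, t * t = 1 ∧ t ≠ 1 ∧ ∃ s ∈ M, s * t = t * s ∧ s ∉ core M ∧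
    ∀ y ∈ Y, y ≠ 1 → ∀ y' ∈ Y, ∀ x ∈ core (centralizer ({y} : Set G)), x * (t * y') = (t * y') * x →
      ⁅x, s⁆ ∈ core (centralizer ({t * y'} : Set G))

/-- The functor (THEOREM 5/2 of helper285 for all `Y × V`, `(M, Y)` a frame, `V ≤ M` a four-group) and (A). -/
structure Func (F : G → Subgroup G → Prop) (Wf : Subgroup G → Subgroup G) : Prop where
  conj : ∀ (g : G) (D : Subgroup G), Wf (cj g D) = cj g (Wf D)
  eq : ∀ M Y V : Subgroup G, Frame F M Y → Four V → V ≤ M → ∀ D D' : Subgroup G, D ≤ Y ⊔ V → D' ≤ Y ⊔ V →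
    Nat.card D = 8 → Nat.card D' = 8 → Wf D = Wf D'
  odd : ∀ M Y V : Subgroup G, Frame F M Y → Four V → V ≤ M → ∀ D : Subgroup G, D ≤ Y ⊔ V → Nat.card D = 8 →
    Odd (Nat.card (Wf D))
  comm : ∀ M Y V : Subgroup G, Frame F M Y → Four V → V ≤ M → ∀ D : Subgroup G, D ≤ Y ⊔ V → Nat.card D = 8 →
    ∀ B : Subgroup G, B ≤ Y ⊔ V → Nat.card B = 4 → ∀ z, Del B z → ∀ e ∈ Y ⊔ V, ⁅z, e⁆ ∈ Wf D
  tor : ∀ M Y : Subgroup G, Frame F M Y → Tor M Y

/-- The facts on the simple group `Q` (`PSL₂(q)`, `q ≥ 11`). -/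
structure QFacts (Q : Type v) [Group Q] : Prop where
  fin : Finite Q
  simple : IsSimpleGroup Q
  nab : ¬ ∀ x y : Q, x * y = y * x
  gam : SL.GamAut Q
  /-- one class of involutions -/
  conj : ∀ e f : Q, e * e = 1 → e ≠ 1 → f * f = 1 → f ≠ 1 → ∃ g, g * e * g⁻¹ = f
  /-- every involution commutes with another one -/
  four : ∀ e : Q, e * e = 1 → e ≠ 1 → ∃ f : Q, f * f = 1 ∧ f ≠ 1 ∧ f ≠ e ∧ e * f = f * e

/-- The hypotheses of PIECE 3. -/
structure World (F : G → Subgroup G → Prop) (Wf : Subgroup G → Subgroup G) (Q : Type v) [Group Q] : Prop where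
  fam : Fam ⊤ F
  typ : ∀ (t : G) (L : Subgroup G), F t L → Nonempty ((↥L ⧸ oddCore ↥L) ≃* Q)
  qf : QFacts Q
  func : Func F Wf
  /-- the odd order theorem -/
  sol : ∀ X : Subgroup G, Odd (Nat.card X) → Group.IsSolvable X

end defs

end Cfsg.Agent.UGT.P3
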