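import Cfsg.Agent.UGT.P3.Comp

/-!
# PIECE 3, (1) and (4) (same `L`): the group `W` of a frame

`HasW Wf M Y W`: `Wf (Y ⟨v⟩) = W` for all involutions `v` of `M`.
-/

set_option autoImplicit false

open Cfsg Subgroup
open Cfsg.Agent.SignalizersComponents Cfsg.Agent.Lib
open Cfsg.Agent.SignalizersComponents.IntrinsicBasic
open Cfsg.Agent.SignalizersComponents.PLayerAut
open Cfsg.Agent.Intrinsic.Basic Cfsg.Agent.Intrinsic.Cen Cfsg.Agent.Intrinsic.Diag
open Cfsg.Agent.McLLyComp.Act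
open Cfsg.Agent.UGT.TMCBase
open scoped commutatorElement

namespace Cfsg.Agent.UGT.P3

universe u v

/-- `W` is the group of the frame `(M, Y)` -/
def HasW {G : Type u} [Group G] (Wf : Subgroup G → Subgroup G) (M Y W : Subgroup G) : Prop :=
  ∀ v ∈ M, v * v = 1 → v ≠ 1 → Wf (Y ⊔ zpowers v) = W

variable {G : Type u} [Group G] {F : G → Subgroup G → Prop} {Wf : Subgroup G → Subgroup G}
  {Q : Type v} [Group Q] {M Y : Subgroup G}

theorem Frame.conjG (w : World F Wf Q) (hf : Frame F M Y) (g : G) : Frame F (cj g M) (cj g Y) where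
  comp := hf.comp.cj g
  comm := by
    intro y hy m hm
    rw [mem_cj] at hy hm
    have h1 := hf.comm _ hy _ hm
    calc y * m = g * ((g⁻¹ * y * g) * (g⁻¹ * m * g)) * g⁻¹ := by group
      _ = g * ((g⁻¹ * m * g) * (g⁻¹ * y * g)) * g⁻¹ := by rw [h1]
      _ = m * y := by group
  four := hf.four.conjG g
  up := by
    intro y hy hy1
    have hy' := mem_cj.mp hy
    obtain ⟨L, h1, h2, h3⟩ := hf.up _ hy' (fun h => hy1 (by
      calc y = g * (g⁻¹ * y * g) * g⁻¹ := by group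
        _ = 1 := by rw [h]; group))
    refine ⟨IntrinsicBasic.cj g L, ?_, cj_mono h2, ?_⟩
    · have h4 := w.fam.conj h1 g trivial
      have h5 : g * (g⁻¹ * y * g) * g⁻¹ = y := by group
      rwa [h5] at h4
    · rw [core_cj, ← cj_sup, h3]

theorem HasW.conjG (w : World F Wf Q) {W : Subgroup G} (h : HasW Wf M Y W) (g : G) :
    HasW Wf (cj g M) (cj g Y) (cj g W) := by
  intro v hv hvv hv1
  have hv' := mem_cj.mp hv
  have h1 := h _ hv' (by
    calc g⁻¹ * v * g * (g⁻¹ * v * g) = g⁻¹ * (v * v) * g := by group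
      _ = 1 := by rw [hvv]; group) (fun h2 => hv1 (by
    calc v = g * (g⁻¹ * v * g) * g⁻¹ := by group
      _ = 1 := by rw [h2]; group))
  rw [← h1, ← w.func.conj, cj_sup, cj_zpowers]
  congr 3
  group

variable [Finite G]

theorem odd_relIndex_of_sup {L : Subgroup G} (hs : M ⊔ core L = L) : Odd (M.relIndex L) := by
  have hML : M ≤ L := by rw [← hs]; exact le_sup_left
  have h1 : M ≤ normalizer (core L : Set G) := hML.trans (le_normalizer_core L)
  have h2 := CoprimeBasic.card_sup_dvd (X := core L) (Y := M) h1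
  rw [sup_comm, hs] at h2
  have h3 := relIndex_mul_relIndex ⊥ M L bot_le hML
  rw [relIndex_bot_left, relIndex_bot_left] at h3
  rw [← h3, mul_comm (Nat.card (core L))] at h2
  exact (odd_card_core L).of_dvd_nat (Nat.dvd_of_mul_dvd_mul_left Nat.card_pos h2)

theorem Frame.ty (w : World F Wf Q) (hf : Frame F M Y) : Ty Q M := by
  obtain ⟨y, hy, hy1⟩ := hf.four.exists_ne_one
  obtain ⟨L, h1, h2, h3⟩ := hf.up y hy hy1
  exact Ty.of_sup hf.comp h3 (w.typ y L h1)

theorem Frame.not_mem (w : World F Wf Q) (hf : Frame F M Y) {y : G} (hy : y ∈ Y) (hyM : y ∈ M) :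
    y = 1 := by
  by_contra hy1
  obtain ⟨x, hx, hxc⟩ := (hf.ty w).not_central w.qf hyM (not_mem_core_of_sq (hf.four.sq y hy) hy1)
  apply hxc
  rw [hf.comm y hy x hx]
  have : x⁻¹ * (x * y * y⁻¹) = 1 := by group
  rw [this]
  exact one_mem _

theorem Frame.card_sup (w : World F Wf Q) (hf : Frame F M Y) {A B : Subgroup G} (hA : A ≤ Y)
    (hB : B ≤ M) : Nat.card ↥(A ⊔ B) = Nat.card A * Nat.card B :=
  P3.card_sup (fun a ha b hb => hf.comm a (hA ha) b (hB hb))
    (fun _ hx hx' => hf.not_mem w (hA hx) (hB hx'))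

theorem Frame.card_one (w : World F Wf Q) (hf : Frame F M Y) {v : G} (hv : v ∈ M) (hvv : v * v = 1)
    (hv1 : v ≠ 1) : Nat.card ↥(Y ⊔ zpowers v) = 8 := by
  rw [hf.card_sup w le_rfl (by rwa [zpowers_le]), hf.four.card, card_zpowers_of_sq hvv hv1]

theorem Frame.card_two (w : World F Wf Q) (hf : Frame F M Y) {V : Subgroup G} (hV : Four V)
    (hVM : V ≤ M) {s : G} (hs : s ∈ Y) (hs1 : s ≠ 1) : Nat.card ↥(zpowers s ⊔ V) = 8 := by
  rw [hf.card_sup w (by rwa [zpowers_le]) hVM, hV.card, card_zpowers_of_sq (hf.four.sq s hs) hs1]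

/-- **(1)** for commuting involutions -/
theorem Frame.wf_eq (w : World F Wf Q) (hf : Frame F M Y) {v v' : G} (hv : v ∈ M) (hvv : v * v = 1)
    (hv1 : v ≠ 1) (hv' : v' ∈ M) (hvv' : v' * v' = 1) (hv1' : v' ≠ 1) (hc : v * v' = v' * v) :
    Wf (Y ⊔ zpowers v) = Wf (Y ⊔ zpowers v') := by
  by_cases hne : v = v'
  · rw [hne]
  have hV := four_quad hvv hvv' hc hv1 hv1' hne
  have hVM : quad hvv hvv' hc ≤ M := quad_le hv hv'
  refine w.func.eq M Y _ hf hV hVM _ _ (sup_le_sup_left ?_ Y) (sup_le_sup_left ?_ Y)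
    (hf.card_one w hv hvv hv1) (hf.card_one w hv' hvv' hv1')
  · rw [zpowers_le]; exact left_mem_quad
  · rw [zpowers_le]; exact right_mem_quad

omit [Finite G] in
theorem Frame.cj_D (hf : Frame F M Y) {m v : G} (hm : m ∈ M) (hc : m * v = v * m) :
    cj m (Y ⊔ zpowers v) = Y ⊔ zpowers v := by
  rw [cj_sup, cj_zpowers, cj_of_comm' (fun a ha => (hf.comm a ha m hm).symm), hc]
  congr 2
  group

theorem Frame.cent_mem (w : World F Wf Q) (hf : Frame F M Y) {m v : G} (hm : m ∈ M)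
    (hc : m * v = v * m) : m ∈ normalizer (Wf (Y ⊔ zpowers v) : Set G) := by
  rw [mem_normalizer_iff_cj, ← w.func.conj, hf.cj_D hm hc]

theorem Frame.le_normalizer_wf (w : World F Wf Q) (hf : Frame F M Y) {v : G} (hv : v ∈ M)
    (hvv : v * v = 1) (hv1 : v ≠ 1) : M ≤ normalizer (Wf (Y ⊔ zpowers v) : Set G) := by
  obtain ⟨v', hv', hvv', hv1', hne, hc⟩ := (hf.ty w).exists_comm_inv w.qf hv hvv hv1
  have h4 := four_quad hvv hvv' hc hv1 hv1' hne.symm
  have hp : v * v' ∈ M := mul_mem hv hv'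
  have hpp : (v * v') * (v * v') = 1 := h4.sq _ (Or.inr (Or.inr (Or.inr rfl)))
  have hp1 : v * v' ≠ 1 := mul_ne_one_of_ne hvv' hne.symm
  refine (hf.ty w).gam_le w.qf hv hv' hvv hvv' hc hv1 hv1' hne.symm ?_ ?_ ?_
  · intro x hx hxv
    exact hf.cent_mem w hx hxv
  · intro x hx hxv
    rw [hf.wf_eq w hv hvv hv1 hv' hvv' hv1' hc]
    exact hf.cent_mem w hx hxv
  · intro x hx hxv
    rw [hf.wf_eq w hv hvv hv1 hp hpp hp1 (by
      calc v * (v * v') = v * (v' * v) := by rw [hc]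
        _ = v * v' * v := by group)]
    exact hf.cent_mem w hx hxv

theorem Frame.exists_hasW (w : World F Wf Q) (hf : Frame F M Y) : ∃ W, HasW Wf M Y W := by
  obtain ⟨v₀, hv₀, hvv₀, hv1₀⟩ := (hf.ty w).exists_inv
  refine ⟨Wf (Y ⊔ zpowers v₀), fun v hv hvv hv1 => ?_⟩
  obtain ⟨m, hm, rfl⟩ := (hf.ty w).exists_conj_inv w.qf hv₀ hvv₀ hv1₀ hv hvv hv1
  have h1 : cj m (Y ⊔ zpowers v₀) = Y ⊔ zpowers (m * v₀ * m⁻¹) := by
    rw [cj_sup, cj_zpowers, cj_of_comm' (fun a ha => (hf.comm a ha m hm).symm)]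
  rw [← h1, w.func.conj]
  exact mem_normalizer_iff_cj.mp (hf.le_normalizer_wf w hv₀ hvv₀ hv1₀ hm)

section hasW

variable {W : Subgroup G}

theorem HasW.unique {W' : Subgroup G} (w : World F Wf Q) (hf : Frame F M Y) (h : HasW Wf M Y W)
    (h' : HasW Wf M Y W') : W = W' := by
  obtain ⟨v, hv, hvv, hv1⟩ := (hf.ty w).exists_inv
  rw [← h v hv hvv hv1, h' v hv hvv hv1]

theorem HasW.M_le (w : World F Wf Q) (hf : Frame F M Y) (h : HasW Wf M Y W) :
    M ≤ normalizer (W : Set G) := by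
  obtain ⟨v, hv, hvv, hv1⟩ := (hf.ty w).exists_inv
  rw [← h v hv hvv hv1]
  exact hf.le_normalizer_wf w hv hvv hv1

omit [Finite G] in
theorem Four.exists_pair {V : Subgroup G} (hV : Four V) : ∃ a ∈ V, ∃ b ∈ V, a ≠ 1 ∧ b ≠ 1 ∧ a ≠ b := by
  obtain ⟨a, ha, ha1⟩ := hV.exists_ne_one
  obtain ⟨b, hb, hb1, hne⟩ := hV.exists_ne a
  exact ⟨a, ha, b, hb, ha1, hb1, hne.symm⟩

theorem HasW.eq_D (w : World F Wf Q) (hf : Frame F M Y) (h : HasW Wf M Y W) {V D : Subgroup G}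
    (hV : Four V) (hVM : V ≤ M) (hD : D ≤ Y ⊔ V) (hcard : Nat.card D = 8) : Wf D = W := by
  obtain ⟨v, hv, hv1⟩ := hV.exists_ne_one
  rw [← h v (hVM hv) (hV.sq v hv) hv1]
  refine w.func.eq M Y V hf hV hVM _ _ hD (sup_le_sup_left ?_ Y) hcard
    (hf.card_one w (hVM hv) (hV.sq v hv) hv1)
  rwa [zpowers_le]

/-- every involution of `M` lies in a four-group of `M` -/
theorem Ty.exists_four (h : Ty Q M) (hQ : QFacts Q) {e : G} (he : e ∈ M) (hee : e * e = 1)
    (he1 : e ≠ 1) : ∃ V, Four V ∧ V ≤ M ∧ e ∈ V := by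
  obtain ⟨f, hf, hff, hf1, hfe, hef⟩ := h.exists_comm_inv hQ he hee he1
  exact ⟨_, four_quad hee hff hef he1 hf1 hfe.symm, quad_le he hf, left_mem_quad⟩

theorem Ty.exists_four' (h : Ty Q M) (hQ : QFacts Q) : ∃ V, Four V ∧ V ≤ M := by
  obtain ⟨v, hv, hvv, hv1⟩ := h.exists_inv
  obtain ⟨V, h1, h2, -⟩ := h.exists_four hQ hv hvv hv1
  exact ⟨V, h1, h2⟩

theorem HasW.odd (w : World F Wf Q) (hf : Frame F M Y) (h : HasW Wf M Y W) : Odd (Nat.card W) := by
  obtain ⟨v, hv, hvv, hv1⟩ := (hf.ty w).exists_inv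
  obtain ⟨V, h1, h2, h3⟩ := (hf.ty w).exists_four w.qf hv hvv hv1
  rw [← h v hv hvv hv1]
  exact w.func.odd M Y V hf h1 h2 _ (sup_le_sup_left (by rwa [zpowers_le]) Y)
    (hf.card_one w hv hvv hv1)

theorem HasW.del_comm (w : World F Wf Q) (hf : Frame F M Y) (h : HasW Wf M Y W) {V : Subgroup G}
    (hV : Four V) (hVM : V ≤ M) {B : Subgroup G} (hB : B ≤ Y ⊔ V) (hcard : Nat.card B = 4) {z : G}
    (hz : Del B z) {e : G} (he : e ∈ Y ⊔ V) : ⁅z, e⁆ ∈ W := by
  obtain ⟨v, hv, hv1⟩ := hV.exists_ne_one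
  rw [← h v (hVM hv) (hV.sq v hv) hv1]
  exact w.func.comm M Y V hf hV hVM _ (sup_le_sup_left (by rwa [zpowers_le]) Y)
    (hf.card_one w (hVM hv) (hV.sq v hv) hv1) B hB hcard z hz e he

theorem HasW.Y_le (w : World F Wf Q) (hf : Frame F M Y) (h : HasW Wf M Y W) :
    Y ≤ normalizer (W : Set G) := by
  obtain ⟨v, hv, hvv, hv1⟩ := (hf.ty w).exists_inv
  intro y hy
  rw [← h v hv hvv hv1, mem_normalizer_iff_cj, ← w.func.conj]
  congr 1
  rw [cj_sup, cj_zpowers, cj_eq_self_of_mem hy, hf.comm y hy v hv]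
  congr 2
  group

omit [Finite G] in
theorem Four.zpowers_le {V : Subgroup G} {s : G} (hs : s ∈ V) : zpowers s ≤ V := by
  rwa [Subgroup.zpowers_le]

/-- `O(C(s)) ≤ N(W)` for `s ∈ Y#` -/
theorem HasW.core_le (w : World F Wf Q) (hf : Frame F M Y) (h : HasW Wf M Y W) {s : G} (hs : s ∈ Y)
    (hs1 : s ≠ 1) : core (centralizer ({s} : Set G)) ≤ normalizer (W : Set G) := by
  have h2p : Fact (Nat.Prime 2) := ⟨Nat.prime_two⟩
  obtain ⟨V, hV, hVM⟩ := (hf.ty w).exists_four' w.qf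
  obtain ⟨y, hy, hy1, hys⟩ := hf.four.exists_ne s
  have hss := hf.four.sq s hs
  have hyy := hf.four.sq y hy
  obtain ⟨A, hA⟩ : ∃ A, A = zpowers y ⊔ V := ⟨_, rfl⟩
  have hcomm : ∀ a ∈ zpowers y, ∀ b ∈ V, a * b = b * a := fun a ha b hb =>
    hf.comm a (Four.zpowers_le hy ha) b (hVM hb)
  have hA8 : Nat.card A = 8 := by rw [hA]; exact hf.card_two w hV hVM hy hy1
  have hAsq : ∀ a ∈ A, a * a = 1 := by
    intro a ha
    rw [hA, mem_sup_of_comm hcomm] at ha
    obtain ⟨b, hb, c, hc, rfl⟩ := ha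
    have e1 := hcomm b hb c hc
    have e2 := hf.four.sq b (Four.zpowers_le hy hb)
    have e3 := hV.sq c hc
    calc b * c * (b * c) = b * (c * b) * c := by group
      _ = b * (b * c) * c := by rw [e1]
      _ = (b * b) * (c * c) := by group
      _ = 1 := by rw [e2, e3, one_mul]
  have hAs : ∀ a ∈ A, s * a = a * s := by
    intro a ha
    rw [hA, mem_sup_of_comm hcomm] at ha
    obtain ⟨b, hb, c, hc, rfl⟩ := ha
    have e1 := hf.four.comm hs (Four.zpowers_le hy hb)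
    have e2 := hf.comm s hs c (hVM hc)
    calc s * (b * c) = (s * b) * c := by group
      _ = b * (s * c) := by rw [e1]; group
      _ = b * c * s := by rw [e2]; group
  have hsA : s ∉ A := by
    intro hsA
    rw [hA, mem_sup_of_comm hcomm] at hsA
    obtain ⟨b, hb, c, hc, hbc⟩ := hsA
    have hc1 : c = 1 := by
      refine hf.not_mem w ?_ (hVM hc)
      have : c = b⁻¹ * s := by rw [← hbc]; group
      rw [this]
      exact mul_mem (inv_mem (Four.zpowers_le hy hb)) hs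
    rw [hc1, mul_one] at hbc
    rcases zpowers_of_sq hyy hb with h1 | h1
    · exact hs1 (by rw [← hbc, h1])
    · exact hys (by rw [← hbc, h1])
  obtain ⟨Z, hZ⟩ : ∃ Z, Z = core (centralizer ({s} : Set G)) := ⟨_, rfl⟩
  have hZodd : Odd (Nat.card Z) := hZ ▸ odd_card_core _
  have hAn : A ≤ normalizer (Z : Set G) := by
    rw [hZ]
    intro a ha
    exact le_normalizer_core _ (mem_c (hAs a ha).symm)
  have hA1 : A ≠ ⊥ := by
    rintro hb
    rw [hb, card_bot] at hA8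
    omega
  rw [← hZ, ← Lib.CoprimeHyperplane.iSup_centralizer_hyperplane (Four.elem hAsq) hA1
    (by rw [← even_iff_two_dvd]; exact Nat.not_even_iff_odd.mpr hZodd) hAn]
  refine iSup_le ?_
  rintro ⟨B, hBA, hBi⟩ z ⟨hz, hzB⟩
  have hB4 : Nat.card B = 4 := by
    have := relIndex_mul_relIndex ⊥ B A bot_le hBA
    rw [relIndex_bot_left, relIndex_bot_left, hBi, hA8] at this
    omega
  have hsB : ∀ a ∈ zpowers s, ∀ b ∈ B, a * b = b * a := by
    intro a ha b hb
    rcases zpowers_of_sq hss ha with rfl | rfl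
    · rw [one_mul, mul_one]
    · exact hAs b (hBA hb)
  have hD8 : Nat.card ↥(zpowers s ⊔ B) = 8 := by
    rw [P3.card_sup hsB, hB4, card_zpowers_of_sq hss hs1]
    intro x hx hxB
    rcases zpowers_of_sq hss hx with rfl | rfl
    · rfl
    · exact absurd (hBA hxB) hsA
  have hDle : zpowers s ⊔ B ≤ Y ⊔ V := by
    refine sup_le ((Four.zpowers_le hs).trans le_sup_left) (hBA.trans ?_)
    rw [hA]
    exact sup_le_sup_right (Four.zpowers_le hy) V
  rw [← h.eq_D w hf hV hVM hDle hD8, mem_normalizer_iff_cj, ← w.func.conj]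
  congr 1
  apply cj_of_comm'
  intro d hd
  rw [mem_sup_of_comm hsB] at hd
  obtain ⟨a, ha, b, hb, rfl⟩ := hd
  have e1 : z * a = a * z := by
    rcases zpowers_of_sq hss ha with rfl | rfl
    · rw [one_mul, mul_one]
    · rw [hZ] at hz
      exact comm_c (Intrinsic.Basic.core_le _ hz)
  have e2 : z * b = b * z := (mem_centralizer_iff.mp hzB b hb).symm
  calc z * (a * b) = (z * a) * b := by group
    _ = a * (z * b) := by rw [e1]; group
    _ = a * b * z := by rw [e2]; group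

theorem HasW.L_le (w : World F Wf Q) (hf : Frame F M Y) (h : HasW Wf M Y W) {s : G} (hs : s ∈ Y)
    (hs1 : s ≠ 1) {L : Subgroup G} (hL : F s L) (hML : M ⊔ core L = L) :
    L ≤ normalizer (W : Set G) := by
  rw [← hML]
  exact sup_le (h.M_le w hf) (((w.fam.comp hL).core_le_core).trans (h.core_le w hf hs hs1))

/-- **(4), R1 with the same `L`** -/
theorem HasW.eq_of_same (w : World F Wf Q) {M' Y' W' : Subgroup G} (hf : Frame F M Y)
    (hf' : Frame F M' Y') (h : HasW Wf M Y W) (h' : HasW Wf M' Y' W') {s : G} (hs : s ∈ Y)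
    (hs' : s ∈ Y') (hs1 : s ≠ 1) {L : Subgroup G} (hL : F s L) (hML : M ⊔ core L = L)
    (hML' : M' ⊔ core L = L) : W = W' := by
  have hM'L : M' ≤ L := by rw [← hML']; exact le_sup_left
  have hMLe : M ≤ L := by rw [← hML]; exact le_sup_left
  obtain ⟨V, hV, hVM⟩ := (hf'.ty w).exists_four' w.qf
  obtain ⟨l, hl, hlV⟩ := exists_conj_le hV.isPGroup (hVM.trans hM'L) (odd_relIndex_of_sup hML)
  have hVM' : cj l⁻¹ V ≤ M := by
    intro x hx
    rw [mem_cj] at hx
    have h1 := hlV _ hx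
    have h2 : l⁻¹ * (l⁻¹⁻¹ * x * l⁻¹) * l = x := by group
    rwa [h2] at h1
  have hls : l * s = s * l := comm_c ((w.fam.comp hL).le hl)
  have hV' := hV.conjG l⁻¹
  have h1 : Wf (zpowers s ⊔ V) = W' := h'.eq_D w hf' hV hVM
    (sup_le_sup_right (Four.zpowers_le hs') V) (hf'.card_two w hV hVM hs' hs1)
  have h2 : Wf (zpowers s ⊔ IntrinsicBasic.cj l⁻¹ V) = W := h.eq_D w hf hV' hVM'
    (sup_le_sup_right (Four.zpowers_le hs) _) (hf.card_two w hV' hVM' hs hs1)
  have h3 : zpowers s ⊔ IntrinsicBasic.cj l⁻¹ V = IntrinsicBasic.cj l⁻¹ (zpowers s ⊔ V) := by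
    rw [cj_sup, cj_zpowers]
    congr 2
    calc s = l⁻¹ * (l * s) := by group
      _ = l⁻¹ * (s * l) := by rw [hls]
      _ = l⁻¹ * s * l⁻¹⁻¹ := by group
  rw [h3, w.func.conj, h1] at h2
  have h4 : l ∈ normalizer (W : Set G) := h.L_le w hf hs hs1 hL hML hl
  rw [mem_normalizer_iff_cj] at h4
  have h5 : W' = IntrinsicBasic.cj l W := by rw [← h2, cj_cj_inv]
  rw [h5, h4]

end hasW

end Cfsg.Agent.UGT.P3
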